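import Groth.Agent.ConnConj.Main
import Groth.Agent.MultKer.Equal
import Groth.Agent.CommGrpAbLib.Basic
/-!
An extension of a group with connected fibres by a group of multiplicative type is central.
-/

set_option autoImplicit false
set_option backward.isDefEq.respectTransparency false
set_option backward.isDefEq.respectTransparency.types false
set_option linter.style.haveILetI false

universe u

open CategoryTheory CategoryTheory.Limits MonoidalCategory CartesianMonoidalCategory MonObj AlgebraicGeometry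

noncomputable section

namespace Groth.Agent.ConnConj.Ext

open FixedSmooth HomTriv

variable {S : Scheme.{u}} {H K : Over S} [GrpObj H] [GrpObj K] {B : CommRingCat.{u}} {t : Spec B ⟶ S}
  {M : Type} [AddCommGroup M]

/-- Centrality on a fibre of an extension of a connected group, over a field splitting the subgroup. -/
theorem central_chart {U : Over S} [GrpObj U] (p : K ⟶ U) [IsMonHom p] [Surjective p.left] [Flat p.left]
    [QuasiCompact p.left] (hconn : GeometricallyConnected U.hom) {L₀ : CommRingCat.{u}}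
    {c : Spec L₀ ⟶ S} (σ : Split H c M) (i : H ⟶ K) [IsMonHom i] [Mono i]
    (hn : AlgGrp.IsNormalHom i) (hker : AlgGrp.IsKernel i p) (hH : TrivAct.HasSplitCovers H) :
    CentralLoc.CentralOn i c := by
  classical
  let X : Scheme.{u} := pullback K.hom c
  let XU : Scheme.{u} := pullback U.hom c
  haveI := hconn
  haveI : GeometricallyConnected (pullback.snd U.hom c) := inferInstance
  let qc : X ⟶ XU := pullback.lift (pullback.fst K.hom c ≫ p.left) (pullback.snd K.hom c)
    (by rw [Category.assoc, Over.w p, pullback.condition])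
  have hqc : IsPullback qc (pullback.fst K.hom c) (pullback.fst U.hom c) p.left := by
    refine IsPullback.of_right ?_ (pullback.lift_fst _ _ _) (IsPullback.of_hasPullback U.hom c).flip
    rw [pullback.lift_snd, Over.w p]
    exact (IsPullback.of_hasPullback K.hom c).flip
  haveI : Surjective qc := MorphismProperty.of_isPullback hqc.flip ‹Surjective p.left›
  haveI : Flat qc := MorphismProperty.of_isPullback hqc.flip ‹Flat p.left›
  haveI : QuasiCompact qc := MorphismProperty.of_isPullback hqc.flip ‹QuasiCompact p.left›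
  choose Ψ hΨ hkey using fun (R : CommRingCat.{u}) (g : L₀ ⟶ R) (k : Over.mk (Spec.map g ≫ c) ⟶ K) =>
    exists_conj_char σ i hn g k
  -- naturality
  have hnat : ∀ {R R' : CommRingCat.{u}} (g : L₀ ⟶ R) (k : Over.mk (Spec.map g ≫ c) ⟶ K) (e : R ⟶ R') (g' : L₀ ⟶ R')
      (k' : Over.mk (Spec.map g' ≫ c) ⟶ K), g ≫ e = g' → Spec.map e ≫ k.left = k'.left →
      ∀ m, Ψ R' g' k' m = (gmap e M).hom (Ψ R g k m) := fun {R R'} g k e g' k' hg hk m => by
    subst hg
    let w' : Over.mk (Spec.map ((g ≫ e) ≫ gc R' M) ≫ c) ⟶ Over.mk (Spec.map (g ≫ e) ≫ c) :=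
      Over.homMk (Spec.map (gc R' M)) (by
        show Spec.map _ ≫ Spec.map (g ≫ e) ≫ c = _
        rw [← Category.assoc, ← Spec.map_comp]
        rfl)
    let w : Over.mk (Spec.map (g ≫ e ≫ gc R' M) ≫ c) ⟶ Over.mk (Spec.map g ≫ c) :=
      Over.homMk (Spec.map (e ≫ gc R' M)) (by
        show Spec.map _ ≫ Spec.map g ≫ c = _
        rw [← Category.assoc, ← Spec.map_comp]
        rfl)
    have h1 := hkey R' (g ≫ e) k' (gc R' M) (MonoidAlgebra.of R' (Multiplicative M)) w' rfl
    have h2 := hkey R g k (e ≫ gc R' M) (MonoidAlgebra.of R' (Multiplicative M)) w rfl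
    let a : Over.mk (Spec.map ((g ≫ e) ≫ gc R' M) ≫ c) ⟶ Over.mk (Spec.map (g ≫ e ≫ gc R' M) ≫ c) :=
      Over.homMk (𝟙 _) (by simp)
    have hw : a ≫ w ≫ k = w' ≫ k' := Over.OverMorphism.ext (by
      show 𝟙 _ ≫ Spec.map (e ≫ gc R' M) ≫ k.left = Spec.map (gc R' M) ≫ k'.left
      rw [Category.id_comp, Spec.map_comp, Category.assoc, hk])
    have hpt : ∀ ψ : Multiplicative M →* GA R' M,
        a ≫ σ.pt (GA R' M) (Spec.map (g ≫ e ≫ gc R' M)) ψ = σ.pt (GA R' M) (Spec.map ((g ≫ e) ≫ gc R' M)) ψ := fun ψ =>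
      Over.OverMorphism.ext ((Category.id_comp _).trans (pt_congr σ (by rw [Category.assoc]) rfl))
    have h3 := congrArg (fun z => a ≫ z) h2
    simp only [MonObj.comp_mul, GrpObj.comp_inv, ← Category.assoc a (σ.pt _ _ _), hpt, hw] at h3
    have h4 := DFunLike.congr_fun (pt_comp_eq_iff σ i _ (h1.symm.trans h3)) m
    have e1 : L (gc R' M).hom (MonoidAlgebra.of R' (Multiplicative M)) = RingHom.id (GA R' M) :=
      MonoidAlgebra.ringHom_ext (fun c => by simp) (fun m => by simp)
    have e2 : L (e ≫ gc R' M).hom (MonoidAlgebra.of R' (Multiplicative M)) = (gmap e M).hom := L_single_of e.hom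
    simp only [e1, e2] at h4
    exact h4
  -- the point of `K` at a point of the fibre
  have hres : ∀ x : X, ∃ g : L₀ ⟶ X.residueField x, Spec.map g = X.fromSpecResidueField x ≫ pullback.snd K.hom c :=
    fun x => Spec.map_surjective _
  choose gx hgx using hres
  let kx : ∀ x : X, Over.mk (Spec.map (gx x) ≫ c) ⟶ K := fun x =>
    Over.homMk (X.fromSpecResidueField x ≫ pullback.fst K.hom c) (by
      show (_ ≫ pullback.fst K.hom c) ≫ K.hom = Spec.map (gx x) ≫ c
      rw [hgx, Category.assoc, Category.assoc, pullback.condition])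
  let Z : Multiplicative M → Set X := fun m =>
    {x | MonoidAlgebra.coeff (Ψ _ (gx x) (kx x) m) m ≠ 0}
  -- the coefficient on an affine piece
  have hloc : ∀ {R : CommRingCat.{u}} (z : Spec R ⟶ X) (g : L₀ ⟶ R) (k : Over.mk (Spec.map g ≫ c) ⟶ K),
      Spec.map g = z ≫ pullback.snd K.hom c → k.left = z ≫ pullback.fst K.hom c →
      ∀ (P : Spec R) (m : Multiplicative M),
        z P ∈ Z m ↔ MonoidAlgebra.coeff (Ψ R g k m) m ∉ (P : PrimeSpectrum R).asIdeal := fun {R} z g k hg hk P m => by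
    obtain ⟨q, -, -, -, hq⟩ := CentralLoc.exists_residue_factor z P
    obtain ⟨e, rfl⟩ := Spec.map_surjective q
    let r : R ⟶ CommRingCat.of (P : PrimeSpectrum R).asIdeal.ResidueField :=
      CommRingCat.ofHom (algebraMap R (P : PrimeSpectrum R).asIdeal.ResidueField)
    let k' : Over.mk (Spec.map (g ≫ r) ≫ c) ⟶ K := Over.homMk (Spec.map r ≫ k.left) (by
      show (Spec.map r ≫ k.left) ≫ K.hom = Spec.map (g ≫ r) ≫ c
      rw [Category.assoc, Over.w k, Spec.map_comp, Category.assoc]
      rfl)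
    have h1 := hnat g k r (g ≫ r) k' rfl rfl m
    have h2 := hnat (gx (z P)) (kx (z P)) e (g ≫ r) k' (Spec.map_injective (by
        rw [Spec.map_comp, hgx, Spec.map_comp, hg, reassoc_of% hq])) (by
        show Spec.map e ≫ X.fromSpecResidueField _ ≫ _ = Spec.map r ≫ k.left
        rw [hk, reassoc_of% hq]) m
    show _ ≠ (0 : X.residueField (z P)) ↔ _
    rw [← Ideal.algebraMap_residueField_eq_zero (I := (P : PrimeSpectrum R).asIdeal),
      ← map_ne_zero_iff e.hom e.hom.injective]
    have h3 := congrArg (fun w => MonoidAlgebra.coeff w m) (h1.symm.trans h2)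
    simp only [MonoidAlgebra.coeff_mapRingHom, Finsupp.mapRange_apply, CommRingCat.hom_ofHom] at h3
    exact not_congr (by rw [← h3]; rfl)
  have hclopen : ∀ m, IsClopen (Z m) := fun m => by
    have hmain : ∀ x : X, ∃ O : Set X, IsOpen O ∧ x ∈ O ∧ (x ∈ Z m → O ⊆ Z m) ∧ (x ∉ Z m → O ⊆ (Z m)ᶜ) := fun x => by
      obtain ⟨W, hW, hxW, -⟩ := exists_isAffineOpen_mem_and_subset (x := x) (U := ⊤) trivial
      obtain ⟨g, hg⟩ := Spec.map_surjective (hW.fromSpec ≫ pullback.snd K.hom c)
      let k : Over.mk (Spec.map g ≫ c) ⟶ K := Over.homMk (hW.fromSpec ≫ pullback.fst K.hom c) (by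
        show (_ ≫ pullback.fst K.hom c) ≫ K.hom = Spec.map g ≫ c
        rw [hg, Category.assoc, Category.assoc, pullback.condition])
      let ep := MonoidAlgebra.coeff (Ψ Γ(X, W) g k m) m
      have hid : IsIdempotentElem ep := IsGL.idem (hΨ Γ(X, W) g k m) m
      have hiff := fun P => hloc hW.fromSpec g k hg rfl P m
      obtain ⟨P, rfl⟩ : x ∈ Set.range hW.fromSpec := by rw [hW.range_fromSpec]; exact hxW
      by_cases hP : ep ∈ (P : PrimeSpectrum Γ(X, W)).asIdeal
      · refine ⟨hW.fromSpec '' (PrimeSpectrum.basicOpen (1 - ep) : Set (PrimeSpectrum Γ(X, W))),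
          hW.fromSpec.isOpenEmbedding.isOpenMap _ (PrimeSpectrum.basicOpen _).2, ⟨P, ?_, rfl⟩,
          fun h => absurd hP ((hiff P).1 h), fun _ => ?_⟩
        · intro h'
          exact (P : PrimeSpectrum Γ(X, W)).isPrime.ne_top ((Ideal.eq_top_iff_one _).2
            (by simpa using Ideal.add_mem _ h' hP))
        · rintro _ ⟨Q, hQ, rfl⟩ hQZ
          have h0 : ep * (1 - ep) ∈ (Q : PrimeSpectrum Γ(X, W)).asIdeal := by
            rw [mul_sub, _root_.mul_one, hid, sub_self]; exact Ideal.zero_mem _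
          exact ((Q : PrimeSpectrum Γ(X, W)).isPrime.mem_or_mem h0).elim ((hiff Q).1 hQZ) hQ
      · exact ⟨hW.fromSpec '' (PrimeSpectrum.basicOpen ep : Set (PrimeSpectrum Γ(X, W))),
          hW.fromSpec.isOpenEmbedding.isOpenMap _ (PrimeSpectrum.basicOpen _).2, ⟨P, hP, rfl⟩,
          fun _ => by rintro _ ⟨Q, hQ, rfl⟩; exact (hiff Q).2 hQ, fun h => absurd ((hiff P).2 hP) h⟩
    constructor
    · rw [← isOpen_compl_iff, isOpen_iff_forall_mem_open]
      intro x hx
      obtain ⟨O, hO, hxO, -, h2⟩ := hmain x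
      exact ⟨O, h2 hx, hO, hxO⟩
    · rw [isOpen_iff_forall_mem_open]
      intro x hx
      obtain ⟨O, hO, hxO, h1, -⟩ := hmain x
      exact ⟨O, h1 hx, hO, hxO⟩
  -- the unit point lies in every `Z m`
  let one : Over.mk (Spec.map (𝟙 L₀) ≫ c) ⟶ K := 1
  let z₁ : Spec L₀ ⟶ X := pullback.lift one.left (𝟙 _) (by
    rw [Category.id_comp]
    exact (Over.w one).trans (by simp))
  have hone : ∀ m, Ψ L₀ (𝟙 L₀) one m = MonoidAlgebra.single m 1 := fun m => by
    let w : Over.mk (Spec.map (𝟙 L₀ ≫ gc L₀ M) ≫ c) ⟶ Over.mk (Spec.map (𝟙 L₀) ≫ c) :=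
      Over.homMk (Spec.map (gc L₀ M)) (by simp)
    have h := hkey L₀ (𝟙 L₀) one (gc L₀ M) (MonoidAlgebra.of L₀ (Multiplicative M)) w rfl
    rw [MonObj.comp_one, inv_one, _root_.one_mul, _root_.mul_one] at h
    have h' := DFunLike.congr_fun (pt_comp_eq_iff σ i _ h) m
    have e1 : L (gc L₀ M).hom (MonoidAlgebra.of L₀ (Multiplicative M)) = RingHom.id (GA L₀ M) :=
      MonoidAlgebra.ringHom_ext (fun c => by simp) (fun m => by simp)
    rw [e1] at h'
    exact h'.symm
  have hsat : ∀ m x x', qc x = qc x' → x ∈ Z m → x' ∈ Z m := fun m x x' e hx => by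
    obtain ⟨w, hw₁, hw₂⟩ := Scheme.Pullback.exists_preimage_pullback (f := qc) (g := qc) x x' e
    let W := pullback qc qc
    let R : CommRingCat.{u} := W.residueField w
    let f := W.fromSpecResidueField w
    let z : Spec R ⟶ X := f ≫ pullback.fst qc qc
    let z' : Spec R ⟶ X := f ≫ pullback.snd qc qc
    obtain ⟨g, hg⟩ := Spec.map_surjective (z ≫ pullback.snd K.hom c)
    have hzz : z ≫ qc = z' ≫ qc := by simp only [z, z', Category.assoc, pullback.condition]
    have hg' : Spec.map g = z' ≫ pullback.snd K.hom c := by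
      rw [hg]
      have h := congrArg (· ≫ pullback.snd U.hom c) hzz
      simpa only [qc, Category.assoc, pullback.lift_snd] using h
    let k : Over.mk (Spec.map g ≫ c) ⟶ K := Over.homMk (z ≫ pullback.fst K.hom c) (by
      show (z ≫ pullback.fst K.hom c) ≫ K.hom = Spec.map g ≫ c
      rw [hg]
      simp only [z, Category.assoc, pullback.condition])
    let k' : Over.mk (Spec.map g ≫ c) ⟶ K := Over.homMk (z' ≫ pullback.fst K.hom c) (by
      show (z' ≫ pullback.fst K.hom c) ≫ K.hom = Spec.map g ≫ c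
      rw [hg']
      simp only [z', Category.assoc, pullback.condition])
    have hkk : k ≫ p = k' ≫ p := Over.OverMorphism.ext (by
      show (z ≫ pullback.fst K.hom c) ≫ p.left = (z' ≫ pullback.fst K.hom c) ≫ p.left
      have h := congrArg (· ≫ pullback.fst U.hom c) hzz
      simpa only [qc, Category.assoc, pullback.lift_fst] using h)
    obtain ⟨η', hη⟩ := CommGrpAbLib.exists_kernel_lift i p hker (k⁻¹ * k') (by
      rw [MonObj.mul_comp, GrpObj.inv_comp, hkk, inv_mul_cancel])
    have hΨeq : Ψ R g k' m = Ψ R g k m := by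
      let v : Over.mk (Spec.map (g ≫ gc R M) ≫ c) ⟶ Over.mk (Spec.map g ≫ c) := Over.homMk (Spec.map (gc R M)) (by
        show Spec.map _ ≫ Spec.map g ≫ c = _
        rw [← Category.assoc, ← Spec.map_comp]
        rfl)
      have h1 := hkey R g k (gc R M) (MonoidAlgebra.of R (Multiplicative M)) v rfl
      have h2 := hkey R g k' (gc R M) (MonoidAlgebra.of R (Multiplicative M)) v rfl
      have hk' : k' = k * (η' ≫ i) := by rw [hη, mul_inv_cancel_left]
      have hcomm : v ≫ η' ≫ i * (σ.pt (GA R M) (Spec.map (g ≫ gc R M)) (MonoidAlgebra.of R (Multiplicative M)) ≫ i) =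
          σ.pt (GA R M) (Spec.map (g ≫ gc R M)) (MonoidAlgebra.of R (Multiplicative M)) ≫ i * (v ≫ η' ≫ i) := by
        rw [← Category.assoc v η' i, ← MonObj.mul_comp, ← MonObj.mul_comp, MultKer.points_comm hH]
      rw [hk', MonObj.comp_mul, _root_.mul_inv_rev, ← _root_.mul_assoc, _root_.mul_assoc _ (v ≫ η' ≫ i) _, hcomm,
        ← _root_.mul_assoc, _root_.mul_inv_cancel_right] at h2
      have h3 := DFunLike.congr_fun (pt_comp_eq_iff σ i _ (h2.symm.trans h1)) m
      have e1 : L (gc R M).hom (MonoidAlgebra.of R (Multiplicative M)) = RingHom.id (GA R M) :=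
        MonoidAlgebra.ringHom_ext (fun c => by simp) (fun m => by simp)
      rw [e1] at h3
      rw [hk']
      exact h3
    let P : Spec R := IsLocalRing.closedPoint R
    have hP : f P = w := W.fromSpecResidueField_apply w P
    have hzP : z P = x := (Scheme.Hom.comp_apply f (pullback.fst qc qc) P).trans ((congrArg _ hP).trans hw₁)
    have hzP' : z' P = x' := (Scheme.Hom.comp_apply f (pullback.snd qc qc) P).trans ((congrArg _ hP).trans hw₂)
    rw [← hzP', hloc z' g k' hg' rfl, hΨeq, ← hloc z g k hg rfl, hzP]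
    exact hx
  have huniv : ∀ m, Z m = Set.univ := fun m => by
    have hpre : qc ⁻¹' (qc '' Z m) = Z m := Set.Subset.antisymm
      (fun x' ⟨x, hx, e⟩ => hsat m x x' e hx) (Set.subset_preimage_image _ _)
    have hq := Flat.isQuotientMap_of_surjective qc
    have hcl : IsClopen (qc '' Z m) :=
      ⟨by rw [← hq.isClosed_preimage, hpre]; exact (hclopen m).1, by rw [← hq.isOpen_preimage, hpre]; exact (hclopen m).2⟩
    refine Set.eq_univ_of_forall fun x => hpre.subset ?_
    refine ((pullback.snd U.hom c).isConnected_preimage_singleton (pullback.snd U.hom c (qc x))).isPreconnected.subset_isClopen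
      hcl ⟨qc (z₁ (pullback.snd U.hom c (qc x))), ?_, ⟨_, ?_, rfl⟩⟩ rfl
    · have e : (z₁ ≫ qc) ≫ pullback.snd U.hom c = 𝟙 _ := by
        simp only [z₁, qc, Category.assoc, pullback.lift_snd]
      rw [Set.mem_preimage, Set.mem_singleton_iff, ← Scheme.Hom.comp_apply z₁ qc, ← Scheme.Hom.comp_apply, e]
      rfl
    rw [hloc z₁ (𝟙 L₀) one (by rw [pullback.lift_snd, Spec.map_id]) (pullback.lift_fst _ _ _).symm]
    rw [hone, MonoidAlgebra.coeff_single, Finsupp.single_eq_same]
    exact fun h => (PrimeSpectrum.isPrime _).ne_top ((Ideal.eq_top_iff_one _).2 h)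
  -- conclusion
  intro Y p y h
  refine hom_ext_affine _ _ fun R p₀ v => ?_
  rw [MonObj.comp_mul, MonObj.comp_mul, ← Category.assoc]
  obtain ⟨g, hg⟩ := Spec.map_surjective (v ≫ p).left
  have hp : p₀ = Spec.map g ≫ c := by rw [hg]; exact (Over.w (v ≫ p)).symm
  subst hp
  let z : Spec R ⟶ X := pullback.lift (v ≫ y).left (Spec.map g) (Over.w (v ≫ y))
  have hsingle : ∀ m, Ψ R g (v ≫ y) m = MonoidAlgebra.single m (1 : R) := fun m => by
    have hGL : IsGL (Ψ R g (v ≫ y) m) := hΨ R g (v ≫ y) m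
    have hunit : IsUnit (MonoidAlgebra.coeff (Ψ R g (v ≫ y) m) m) := by
      by_contra hnu
      obtain ⟨Q, hQ, hmem⟩ := exists_max_ideal_of_mem_nonunits hnu
      have h' := (hloc z g (v ≫ y) (pullback.lift_snd _ _ _).symm (pullback.lift_fst _ _ _).symm
        (⟨Q, hQ.isPrime⟩ : PrimeSpectrum R) m).1 (huniv m ▸ Set.mem_univ _)
      exact h' hmem
    ext l
    rw [MonoidAlgebra.coeff_single]
    by_cases hl : m = l
    · subst hl
      rw [Finsupp.single_eq_same]
      exact hunit.mul_eq_left.1 (IsGL.idem hGL m)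
    · rw [Finsupp.single_eq_of_ne (Ne.symm hl)]
      refine hunit.mul_right_eq_zero.1 ?_
      rw [IsGL.coeff_mul hGL, if_neg hl]
  obtain ⟨χ, hχ⟩ := (σ.pt R (Spec.map g)).surjective (v ≫ h)
  let w : Over.mk (Spec.map (g ≫ 𝟙 R) ≫ c) ⟶ Over.mk (Spec.map g ≫ c) := Over.homMk (Spec.map (𝟙 R)) (by simp)
  have h := hkey R g (v ≫ y) (𝟙 R) χ w rfl
  have hψ : (L (𝟙 R : R ⟶ R).hom χ).toMonoidHom.comp (Ψ R g (v ≫ y)) = χ := MonoidHom.ext fun m => by
    simp only [MonoidHom.comp_apply, RingHom.toMonoidHom_eq_coe, MonoidHom.coe_coe, RingHom.coe_coe]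
    erw [hsingle]
    simp
  rw [hψ, mul_inv_eq_iff_eq_mul] at h
  haveI : IsIso w.left := inferInstanceAs (IsIso (Spec.map _))
  haveI : Epi w := Over.epi_of_epi_left w
  have hw : w ≫ σ.pt R (Spec.map g) χ = σ.pt R (Spec.map (g ≫ 𝟙 R)) χ := Over.OverMorphism.ext (by
    show Spec.map (𝟙 R) ≫ (σ.pt R (Spec.map g) χ).left = _
    rw [Spec.map_id, Category.id_comp]
    exact pt_congr σ (by rw [Category.comp_id]) rfl)
  rw [← hw, Category.assoc, ← MonObj.comp_mul, ← MonObj.comp_mul, cancel_epi, hχ] at h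
  exact h

/-- An extension of a group with connected fibres by a group of multiplicative type is central. -/
theorem central_of_extension {U : Over S} [GrpObj U] (p : K ⟶ U) [IsMonHom p] [Surjective p.left] [Flat p.left]
    [QuasiCompact p.left] (i : H ⟶ K) [IsMonHom i] (hker : AlgGrp.IsKernel i p) (hH : SGA3x.IsMultTypeFT H)
    (hU : ∀ s : S, _root_.IsConnected (U.hom.base ⁻¹' {s})) (X : Over S) (k : X ⟶ K) (h : X ⟶ H) :
    k * (h ≫ i) = (h ≫ i) * k := by
  haveI : Mono i := ⟨fun a b e => hker.hom_ext e (toUnit_unique _ _)⟩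
  have hn : AlgGrp.IsNormalHom i := fun T g n => by
    have hni : (n ≫ i) ≫ p = 1 := by
      rw [Category.assoc, hker.w, ← Category.assoc, toUnit_unique (n ≫ toUnit H) (toUnit T)]
      rfl
    obtain ⟨l, hl⟩ := CommGrpAbLib.exists_kernel_lift i p hker (g * (n ≫ i) * g⁻¹) (by
      rw [MonObj.mul_comp, MonObj.mul_comp, GrpObj.inv_comp, hni, _root_.mul_one, mul_inv_cancel])
    exact ⟨l, hl.symm⟩
  have hgc : GeometricallyConnected U.hom :=
    MonoFibre.geometricallyConnected_of_connected_fibres U.hom (η[U] : 𝟙_ (Over S) ⟶ U).left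
      (Over.w (η[U] : 𝟙_ (Over S) ⟶ U)) fun s => by
        haveI : ConnectedSpace ↥(U.hom.base ⁻¹' {s}) := isConnected_iff_connectedSpace.1 (hU s)
        exact (U.hom.fiberHomeo s).symm.surjective.connectedSpace (U.hom.fiberHomeo s).symm.continuous
  have hcov := (hasSplitCoversFG_of_isMultTypeFT hH).hasSplitCovers
  apply Over.OverMorphism.ext
  refine Scheme.hom_ext_of_forall _ _ fun y => ?_
  obtain ⟨V, hV, hyV, -⟩ := exists_isAffineOpen_mem_and_subset (x := X.hom y) (U := ⊤) trivial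
  obtain ⟨κ, _, B, g, hfl, hsur, hsp⟩ := (hasSplitCoversFG_of_isMultTypeFT hH).exists_over V hV
  refine ⟨X.hom ⁻¹ᵁ V, hyV, ?_⟩
  haveI : IsAffine V.toScheme := hV
  let A : κ → Scheme.{u} := fun j => Spec (B j)
  let π : ∐ A ⟶ V.toScheme := Sigma.desc g
  haveI : Flat π := by
    haveI : IsZariskiLocalAtSource (@Flat.{u}) :=
      HasRingHomProperty.instIsZariskiLocalAtSource.{u} (Q := RingHom.Flat)
    exact IsZariskiLocalAtSource.sigmaDesc hfl
  haveI : Surjective π := ⟨fun z => by
    obtain ⟨j, a, ha⟩ := hsur z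
    refine ⟨Sigma.ι A j a, ?_⟩
    erw [← Scheme.Hom.comp_apply, Sigma.ι_desc]
    exact ha⟩
  haveI : Epi (pullback.fst (X.hom ∣_ V) π) := Flat.epi_of_flat_of_surjective _
  rw [← cancel_epi (pullback.fst (X.hom ∣_ V) π)]
  refine Scheme.Cover.hom_ext ((sigmaOpenCover A).pullback₁ (pullback.snd (X.hom ∣_ V) π)) _ _ fun j => ?_
  obtain ⟨M, _, -, ⟨σ⟩⟩ := hsp j
  have hc := central_chart p hgc σ i hn hker hcov
  let b : pullback (pullback.snd (X.hom ∣_ V) π) (Sigma.ι A j) ⟶ X.left :=
    pullback.fst _ _ ≫ pullback.fst _ _ ≫ (X.hom ⁻¹ᵁ V).ι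
  let w : Over.mk (b ≫ X.hom) ⟶ X := Over.homMk b rfl
  let q : Over.mk (b ≫ X.hom) ⟶ Over.mk (g j ≫ V.ι) := Over.homMk (pullback.snd _ _) (by
    show pullback.snd _ _ ≫ g j ≫ V.ι = b ≫ X.hom
    simp only [b, Category.assoc]
    rw [show g j = Sigma.ι A j ≫ π from (Sigma.ι_desc _ _).symm, Category.assoc, ← pullback.condition_assoc,
      ← pullback.condition_assoc, morphismRestrict_ι])
  have h1 := hc _ q (w ≫ k) (w ≫ h)
  rw [Category.assoc w h i, ← MonObj.comp_mul, ← MonObj.comp_mul] at h1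
  have h2 := congrArg CommaMorphism.left h1
  simp only [Over.comp_left, w, Over.homMk_left, b, Category.assoc] at h2
  exact h2

end Groth.Agent.ConnConj.Ext
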