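import Groth.Agent.CentralLoc.Basic
import Groth.Agent.HomTriv.Ideal
import Groth.Agent.HomTriv.Covers
import Groth.Agent.TrivAct.FibreApps
import Groth.Agent.FixedSmooth.GroupLike
import Groth.Agent.MonoFibre.Connected
/-!
A normal subgroup of multiplicative type of a group with connected fibres is central.
-/

set_option autoImplicit false
set_option backward.isDefEq.respectTransparency false
set_option backward.isDefEq.respectTransparency.types false
set_option linter.style.haveILetI false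

universe u

open CategoryTheory CategoryTheory.Limits MonoidalCategory CartesianMonoidalCategory MonObj AlgebraicGeometry

noncomputable section

namespace Groth.Agent.ConnConj

open FixedSmooth HomTriv

variable {S : Scheme.{u}} {H K : Over S} [GrpObj H] [GrpObj K] {B : CommRingCat.{u}} {t : Spec B ⟶ S}
  {M : Type} [AddCommGroup M]

/-- Conjugation of the universal point by a point, read off on characters. -/
theorem exists_conj_char (σ : Split H t M) (i : H ⟶ K) [IsMonHom i] [Mono i] (hn : AlgGrp.IsNormalHom i)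
    {R : CommRingCat.{u}} (g : B ⟶ R) (k : Over.mk (Spec.map g ≫ t) ⟶ K) :
    ∃ Ψ : Multiplicative M →* GA R M, (∀ m, IsGL (Ψ m)) ∧
      ∀ {D : CommRingCat.{u}} (e : R ⟶ D) (χ : Multiplicative M →* D)
        (w : Over.mk (Spec.map (g ≫ e) ≫ t) ⟶ Over.mk (Spec.map g ≫ t)), w.left = Spec.map e →
        (w ≫ k) * (σ.pt D (Spec.map (g ≫ e)) χ ≫ i) * (w ≫ k)⁻¹ =
          σ.pt D (Spec.map (g ≫ e)) ((L e.hom χ).toMonoidHom.comp Ψ) ≫ i := by
  let τ : Split H (Spec.map g ≫ t) M := res σ g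
  let pr' : Over.mk (Spec.map (gc R M) ≫ Spec.map g ≫ t) ⟶ Over.mk (Spec.map g ≫ t) :=
    Over.homMk (Spec.map (gc R M)) rfl
  obtain ⟨n, hn'⟩ := hn _ (pr' ≫ k) (univ τ)
  let Ψ : Multiplicative M →* GA R M := (τ.pt (GA R M) (Spec.map (gc R M))).symm n
  have key : ∀ {D : CommRingCat.{u}} (e : R ⟶ D) (χ : Multiplicative M →* D)
      (w : Over.mk (Spec.map (g ≫ e) ≫ t) ⟶ Over.mk (Spec.map g ≫ t)), w.left = Spec.map e →
      (w ≫ k) * (σ.pt D (Spec.map (g ≫ e)) χ ≫ i) * (w ≫ k)⁻¹ =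
        σ.pt D (Spec.map (g ≫ e)) ((L e.hom χ).toMonoidHom.comp Ψ) ≫ i := fun {D} e χ w hw => by
    let m : Over.mk (Spec.map (g ≫ e) ≫ t) ⟶ Over.mk (Spec.map (gc R M) ≫ Spec.map g ≫ t) :=
      Over.homMk (Spec.map (gev e χ)) (by
        show Spec.map (gev e χ) ≫ Spec.map (gc R M) ≫ Spec.map g ≫ t = _
        rw [← Category.assoc, ← Spec.map_comp, ← Category.assoc, ← Spec.map_comp]
        congr 2
        rw [show gc R M ≫ gev e χ = e from CommRingCat.hom_ext (L_comp_single e.hom χ)])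
    have hev : Spec.map (gev e χ) ≫ Spec.map (gc R M) = Spec.map e := by
      rw [← Spec.map_comp]
      congr 1
      exact CommRingCat.hom_ext (L_comp_single e.hom χ)
    have hp : Spec.map e ≫ Spec.map g = Spec.map (g ≫ e) := (Spec.map_comp g e).symm
    have h1 : ∀ ψ : Multiplicative M →* D, (τ.pt D (Spec.map e) ψ).left =
        (σ.pt D (Spec.map (g ≫ e)) ψ).left := fun ψ => by
      show 𝟙 _ ≫ (σ.pt D (Spec.map e ≫ Spec.map g) ψ).left = _
      exact (Category.id_comp _).trans (pt_congr σ hp rfl)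
    have hu : m ≫ univ τ = σ.pt D (Spec.map (g ≫ e)) χ :=
      Over.OverMorphism.ext ((pt_left τ e χ).symm.trans (h1 χ))
    have hn1 : m ≫ n = σ.pt D (Spec.map (g ≫ e)) ((L e.hom χ).toMonoidHom.comp Ψ) := by
      apply Over.OverMorphism.ext
      rw [← h1]
      have h2 := congrArg CommaMorphism.left (τ.nat (GA R M) D (Spec.map (gc R M)) (gev e χ) Ψ)
      have h3 : τ.pt (GA R M) (Spec.map (gc R M)) Ψ = n := MulEquiv.apply_symm_apply _ _
      rw [h3] at h2
      exact h2.trans (pt_congr τ hev rfl)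
    have hwk : m ≫ pr' = w := Over.OverMorphism.ext (hev.trans hw.symm)
    rw [← hu, ← hn1, ← hwk]
    have h4 := congrArg (fun z => m ≫ z) hn'
    simpa only [MonObj.comp_mul, GrpObj.comp_inv, Category.assoc] using h4
  refine ⟨Ψ, fun m {B'} _ f χ χ' => ?_, key⟩
  let e : R ⟶ CommRingCat.of B' := CommRingCat.ofHom f
  let w : Over.mk (Spec.map (g ≫ e) ≫ t) ⟶ Over.mk (Spec.map g ≫ t) := Over.homMk (Spec.map e) (by
    show Spec.map e ≫ Spec.map g ≫ t = Spec.map (g ≫ e) ≫ t
    rw [← Category.assoc, ← Spec.map_comp])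
  constructor
  · have h : σ.pt _ (Spec.map (g ≫ e)) ((L e.hom (χ * χ')).toMonoidHom.comp Ψ) =
        σ.pt _ (Spec.map (g ≫ e)) ((L e.hom χ).toMonoidHom.comp Ψ * (L e.hom χ').toMonoidHom.comp Ψ) := by
      rw [← cancel_mono i, map_mul _ ((L e.hom χ).toMonoidHom.comp Ψ), MonObj.mul_comp, ← key e χ w rfl, ← key e χ' w rfl,
        ← key e (χ * χ') w rfl, map_mul, MonObj.mul_comp]
      simp only [_root_.mul_assoc, _root_.inv_mul_cancel_left]
    exact DFunLike.congr_fun ((σ.pt _ _).injective h) m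
  · have h : σ.pt _ (Spec.map (g ≫ e)) ((L e.hom (1 : Multiplicative M →* B')).toMonoidHom.comp Ψ) =
        σ.pt _ (Spec.map (g ≫ e)) 1 := by
      rw [← cancel_mono i, ← key e 1 w rfl, map_one, MonObj.one_comp, _root_.mul_one, mul_inv_cancel]
    exact DFunLike.congr_fun ((σ.pt _ _).injective h) m

theorem pt_comp_eq_iff (σ : Split H t M) (i : H ⟶ K) [Mono i] {D : CommRingCat.{u}} (g : B ⟶ D)
    {ψ ψ' : Multiplicative M →* D} (h : σ.pt D (Spec.map g) ψ ≫ i = σ.pt D (Spec.map g) ψ' ≫ i) : ψ = ψ' :=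
  (σ.pt D _).injective ((cancel_mono i).1 h)

/-- Centrality on a connected fibre, over a field splitting the subgroup. -/
theorem central_field (hconn : GeometricallyConnected K.hom) {k₀ : Type u} [Field k₀]
    {c : Spec (CommRingCat.of k₀) ⟶ S} (σ : Split H c M) (i : H ⟶ K) [IsMonHom i] [Mono i]
    (hn : AlgGrp.IsNormalHom i) : CentralLoc.CentralOn i c := by
  classical
  let L₀ : CommRingCat.{u} := CommRingCat.of k₀
  let X : Scheme.{u} := pullback K.hom c
  haveI : ConnectedSpace X :=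
    GeometricallyConnected.geometrically_connectedSpace (f := K.hom) _ _ _ (IsPullback.of_hasPullback K.hom c)
  choose Ψ hΨ hkey using fun (R : CommRingCat.{u}) (g : L₀ ⟶ R) (k : Over.mk (Spec.map g ≫ c) ⟶ K) =>
    exists_conj_char σ i hn g k
  -- naturality
  have hnat : ∀ {R R' : CommRingCat.{u}} (g : L₀ ⟶ R) (k : Over.mk (Spec.map g ≫ c) ⟶ K) (e : R ⟶ R') (g' : L₀ ⟶ R')
      (k' : Over.mk (Spec.map g' ≫ c) ⟶ K), g ≫ e = g' → Spec.map e ≫ k.left = k'.left →
      ∀ m, Ψ R' g' k' m = (gmap e M).hom (Ψ R g k m) := fun {R R'} g k e g' k' hg hk m => by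
    subst hg
    let w' : Over.mk (Spec.map ((g ≫ e) ≫ gc R' M) ≫ c) ⟶ Over.mk (Spec.map (g ≫ e) ≫ c) :=
      Over.homMk (Spec.map (gc R' M)) (by
        show Spec.map _ ≫ Spec.map (g ≫ e) ≫ c = _
        rw [← Category.assoc, ← Spec.map_comp]
        rfl)
    let w : Over.mk (Spec.map (g ≫ e ≫ gc R' M) ≫ c) ⟶ Over.mk (Spec.map g ≫ c) :=
      Over.homMk (Spec.map (e ≫ gc R' M)) (by
        show Spec.map _ ≫ Spec.map g ≫ c = _
        rw [← Category.assoc, ← Spec.map_comp]
        rfl)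
    have h1 := hkey R' (g ≫ e) k' (gc R' M) (MonoidAlgebra.of R' (Multiplicative M)) w' rfl
    have h2 := hkey R g k (e ≫ gc R' M) (MonoidAlgebra.of R' (Multiplicative M)) w rfl
    let a : Over.mk (Spec.map ((g ≫ e) ≫ gc R' M) ≫ c) ⟶ Over.mk (Spec.map (g ≫ e ≫ gc R' M) ≫ c) :=
      Over.homMk (𝟙 _) (by simp)
    have hw : a ≫ w ≫ k = w' ≫ k' := Over.OverMorphism.ext (by
      show 𝟙 _ ≫ Spec.map (e ≫ gc R' M) ≫ k.left = Spec.map (gc R' M) ≫ k'.left
      rw [Category.id_comp, Spec.map_comp, Category.assoc, hk])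
    have hpt : ∀ ψ : Multiplicative M →* GA R' M,
        a ≫ σ.pt (GA R' M) (Spec.map (g ≫ e ≫ gc R' M)) ψ = σ.pt (GA R' M) (Spec.map ((g ≫ e) ≫ gc R' M)) ψ := fun ψ =>
      Over.OverMorphism.ext ((Category.id_comp _).trans (pt_congr σ (by rw [Category.assoc]) rfl))
    have h3 := congrArg (fun z => a ≫ z) h2
    simp only [MonObj.comp_mul, GrpObj.comp_inv, ← Category.assoc a (σ.pt _ _ _), hpt, hw] at h3
    have h4 := DFunLike.congr_fun (pt_comp_eq_iff σ i _ (h1.symm.trans h3)) m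
    have e1 : L (gc R' M).hom (MonoidAlgebra.of R' (Multiplicative M)) = RingHom.id (GA R' M) :=
      MonoidAlgebra.ringHom_ext (fun c => by simp) (fun m => by simp)
    have e2 : L (e ≫ gc R' M).hom (MonoidAlgebra.of R' (Multiplicative M)) = (gmap e M).hom := L_single_of e.hom
    simp only [e1, e2] at h4
    exact h4
  -- the point of `K` at a point of the fibre
  have hres : ∀ x : X, ∃ g : L₀ ⟶ X.residueField x, Spec.map g = X.fromSpecResidueField x ≫ pullback.snd K.hom c :=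
    fun x => Spec.map_surjective _
  choose gx hgx using hres
  let kx : ∀ x : X, Over.mk (Spec.map (gx x) ≫ c) ⟶ K := fun x =>
    Over.homMk (X.fromSpecResidueField x ≫ pullback.fst K.hom c) (by
      show (_ ≫ pullback.fst K.hom c) ≫ K.hom = Spec.map (gx x) ≫ c
      rw [hgx, Category.assoc, Category.assoc, pullback.condition])
  let Z : Multiplicative M → Set X := fun m =>
    {x | MonoidAlgebra.coeff (Ψ _ (gx x) (kx x) m) m ≠ 0}
  -- the coefficient on an affine piece
  have hloc : ∀ {R : CommRingCat.{u}} (z : Spec R ⟶ X) (g : L₀ ⟶ R) (k : Over.mk (Spec.map g ≫ c) ⟶ K),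
      Spec.map g = z ≫ pullback.snd K.hom c → k.left = z ≫ pullback.fst K.hom c →
      ∀ (P : Spec R) (m : Multiplicative M),
        z P ∈ Z m ↔ MonoidAlgebra.coeff (Ψ R g k m) m ∉ (P : PrimeSpectrum R).asIdeal := fun {R} z g k hg hk P m => by
    obtain ⟨q, -, -, -, hq⟩ := CentralLoc.exists_residue_factor z P
    obtain ⟨e, rfl⟩ := Spec.map_surjective q
    let r : R ⟶ CommRingCat.of (P : PrimeSpectrum R).asIdeal.ResidueField :=
      CommRingCat.ofHom (algebraMap R (P : PrimeSpectrum R).asIdeal.ResidueField)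
    let k' : Over.mk (Spec.map (g ≫ r) ≫ c) ⟶ K := Over.homMk (Spec.map r ≫ k.left) (by
      show (Spec.map r ≫ k.left) ≫ K.hom = Spec.map (g ≫ r) ≫ c
      rw [Category.assoc, Over.w k, Spec.map_comp, Category.assoc]
      rfl)
    have h1 := hnat g k r (g ≫ r) k' rfl rfl m
    have h2 := hnat (gx (z P)) (kx (z P)) e (g ≫ r) k' (Spec.map_injective (by
        rw [Spec.map_comp, hgx, Spec.map_comp, hg, reassoc_of% hq])) (by
        show Spec.map e ≫ X.fromSpecResidueField _ ≫ _ = Spec.map r ≫ k.left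
        rw [hk, reassoc_of% hq]) m
    show _ ≠ (0 : X.residueField (z P)) ↔ _
    rw [← Ideal.algebraMap_residueField_eq_zero (I := (P : PrimeSpectrum R).asIdeal),
      ← map_ne_zero_iff e.hom e.hom.injective]
    have h3 := congrArg (fun w => MonoidAlgebra.coeff w m) (h1.symm.trans h2)
    simp only [MonoidAlgebra.coeff_mapRingHom, Finsupp.mapRange_apply, CommRingCat.hom_ofHom] at h3
    exact not_congr (by rw [← h3]; rfl)
  have hclopen : ∀ m, IsClopen (Z m) := fun m => by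
    have hmain : ∀ x : X, ∃ O : Set X, IsOpen O ∧ x ∈ O ∧ (x ∈ Z m → O ⊆ Z m) ∧ (x ∉ Z m → O ⊆ (Z m)ᶜ) := fun x => by
      obtain ⟨W, hW, hxW, -⟩ := exists_isAffineOpen_mem_and_subset (x := x) (U := ⊤) trivial
      obtain ⟨g, hg⟩ := Spec.map_surjective (hW.fromSpec ≫ pullback.snd K.hom c)
      let k : Over.mk (Spec.map g ≫ c) ⟶ K := Over.homMk (hW.fromSpec ≫ pullback.fst K.hom c) (by
        show (_ ≫ pullback.fst K.hom c) ≫ K.hom = Spec.map g ≫ c
        rw [hg, Category.assoc, Category.assoc, pullback.condition])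
      let ep := MonoidAlgebra.coeff (Ψ Γ(X, W) g k m) m
      have hid : IsIdempotentElem ep := IsGL.idem (hΨ Γ(X, W) g k m) m
      have hiff := fun P => hloc hW.fromSpec g k hg rfl P m
      obtain ⟨P, rfl⟩ : x ∈ Set.range hW.fromSpec := by rw [hW.range_fromSpec]; exact hxW
      by_cases hP : ep ∈ (P : PrimeSpectrum Γ(X, W)).asIdeal
      · refine ⟨hW.fromSpec '' (PrimeSpectrum.basicOpen (1 - ep) : Set (PrimeSpectrum Γ(X, W))),
          hW.fromSpec.isOpenEmbedding.isOpenMap _ (PrimeSpectrum.basicOpen _).2, ⟨P, ?_, rfl⟩,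
          fun h => absurd hP ((hiff P).1 h), fun _ => ?_⟩
        · intro h'
          exact (P : PrimeSpectrum Γ(X, W)).isPrime.ne_top ((Ideal.eq_top_iff_one _).2
            (by simpa using Ideal.add_mem _ h' hP))
        · rintro _ ⟨Q, hQ, rfl⟩ hQZ
          have h0 : ep * (1 - ep) ∈ (Q : PrimeSpectrum Γ(X, W)).asIdeal := by
            rw [mul_sub, _root_.mul_one, hid, sub_self]; exact Ideal.zero_mem _
          exact ((Q : PrimeSpectrum Γ(X, W)).isPrime.mem_or_mem h0).elim ((hiff Q).1 hQZ) hQ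
      · exact ⟨hW.fromSpec '' (PrimeSpectrum.basicOpen ep : Set (PrimeSpectrum Γ(X, W))),
          hW.fromSpec.isOpenEmbedding.isOpenMap _ (PrimeSpectrum.basicOpen _).2, ⟨P, hP, rfl⟩,
          fun _ => by rintro _ ⟨Q, hQ, rfl⟩; exact (hiff Q).2 hQ, fun h => absurd ((hiff P).2 hP) h⟩
    constructor
    · rw [← isOpen_compl_iff, isOpen_iff_forall_mem_open]
      intro x hx
      obtain ⟨O, hO, hxO, -, h2⟩ := hmain x
      exact ⟨O, h2 hx, hO, hxO⟩
    · rw [isOpen_iff_forall_mem_open]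
      intro x hx
      obtain ⟨O, hO, hxO, h1, -⟩ := hmain x
      exact ⟨O, h1 hx, hO, hxO⟩
  -- the unit point lies in every `Z m`
  let one : Over.mk (Spec.map (𝟙 L₀) ≫ c) ⟶ K := 1
  let z₁ : Spec L₀ ⟶ X := pullback.lift one.left (𝟙 _) (by
    rw [Category.id_comp]
    exact (Over.w one).trans (by simp))
  have hone : ∀ m, Ψ L₀ (𝟙 L₀) one m = MonoidAlgebra.single m 1 := fun m => by
    let w : Over.mk (Spec.map (𝟙 L₀ ≫ gc L₀ M) ≫ c) ⟶ Over.mk (Spec.map (𝟙 L₀) ≫ c) :=
      Over.homMk (Spec.map (gc L₀ M)) (by simp)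
    have h := hkey L₀ (𝟙 L₀) one (gc L₀ M) (MonoidAlgebra.of L₀ (Multiplicative M)) w rfl
    rw [MonObj.comp_one, inv_one, _root_.one_mul, _root_.mul_one] at h
    have h' := DFunLike.congr_fun (pt_comp_eq_iff σ i _ h) m
    have e1 : L (gc L₀ M).hom (MonoidAlgebra.of L₀ (Multiplicative M)) = RingHom.id (GA L₀ M) :=
      MonoidAlgebra.ringHom_ext (fun c => by simp) (fun m => by simp)
    rw [e1] at h'
    exact h'.symm
  have huniv : ∀ m, Z m = Set.univ := fun m => by
    refine (hclopen m).eq_univ ⟨z₁ (IsLocalRing.closedPoint k₀), ?_⟩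
    rw [hloc z₁ (𝟙 L₀) one (by rw [pullback.lift_snd, Spec.map_id]) (pullback.lift_fst _ _ _).symm]
    rw [hone, MonoidAlgebra.coeff_single, Finsupp.single_eq_same]
    exact fun h => (PrimeSpectrum.isPrime _).ne_top ((Ideal.eq_top_iff_one _).2 h)
  -- conclusion
  intro Y p y h
  refine hom_ext_affine _ _ fun R p₀ v => ?_
  rw [MonObj.comp_mul, MonObj.comp_mul, ← Category.assoc]
  obtain ⟨g, hg⟩ := Spec.map_surjective (v ≫ p).left
  have hp : p₀ = Spec.map g ≫ c := by rw [hg]; exact (Over.w (v ≫ p)).symm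
  subst hp
  let z : Spec R ⟶ X := pullback.lift (v ≫ y).left (Spec.map g) (Over.w (v ≫ y))
  have hsingle : ∀ m, Ψ R g (v ≫ y) m = MonoidAlgebra.single m (1 : R) := fun m => by
    have hGL : IsGL (Ψ R g (v ≫ y) m) := hΨ R g (v ≫ y) m
    have hunit : IsUnit (MonoidAlgebra.coeff (Ψ R g (v ≫ y) m) m) := by
      by_contra hnu
      obtain ⟨Q, hQ, hmem⟩ := exists_max_ideal_of_mem_nonunits hnu
      have h' := (hloc z g (v ≫ y) (pullback.lift_snd _ _ _).symm (pullback.lift_fst _ _ _).symm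
        (⟨Q, hQ.isPrime⟩ : PrimeSpectrum R) m).1 (huniv m ▸ Set.mem_univ _)
      exact h' hmem
    ext l
    rw [MonoidAlgebra.coeff_single]
    by_cases hl : m = l
    · subst hl
      rw [Finsupp.single_eq_same]
      exact hunit.mul_eq_left.1 (IsGL.idem hGL m)
    · rw [Finsupp.single_eq_of_ne (Ne.symm hl)]
      refine hunit.mul_right_eq_zero.1 ?_
      rw [IsGL.coeff_mul hGL, if_neg hl]
  obtain ⟨χ, hχ⟩ := (σ.pt R (Spec.map g)).surjective (v ≫ h)
  let w : Over.mk (Spec.map (g ≫ 𝟙 R) ≫ c) ⟶ Over.mk (Spec.map g ≫ c) := Over.homMk (Spec.map (𝟙 R)) (by simp)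
  have h := hkey R g (v ≫ y) (𝟙 R) χ w rfl
  have hψ : (L (𝟙 R : R ⟶ R).hom χ).toMonoidHom.comp (Ψ R g (v ≫ y)) = χ := MonoidHom.ext fun m => by
    simp only [MonoidHom.comp_apply, RingHom.toMonoidHom_eq_coe, MonoidHom.coe_coe, RingHom.coe_coe]
    erw [hsingle]
    simp
  rw [hψ, mul_inv_eq_iff_eq_mul] at h
  haveI : IsIso w.left := inferInstanceAs (IsIso (Spec.map _))
  haveI : Epi w := Over.epi_of_epi_left w
  have hw : w ≫ σ.pt R (Spec.map g) χ = σ.pt R (Spec.map (g ≫ 𝟙 R)) χ := Over.OverMorphism.ext (by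
    show Spec.map (𝟙 R) ≫ (σ.pt R (Spec.map g) χ).left = _
    rw [Spec.map_id, Category.id_comp]
    exact pt_congr σ (by rw [Category.comp_id]) rfl)
  rw [← hw, Category.assoc, ← MonObj.comp_mul, ← MonObj.comp_mul, cancel_epi, hχ] at h
  exact h

/-- A normal subgroup of multiplicative type of a group with connected fibres is central. -/
theorem central_of_normal [LocallyOfFiniteType K.hom]
    (hconn : ∀ s : S, ConnectedSpace ↥(pullback K.hom (S.fromSpecResidueField s)))
    (i : H ⟶ K) [IsMonHom i] [Mono i] (hH : SGA3x.IsMultTypeFT H) (hn : AlgGrp.IsNormalHom i)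
    (X : Over S) (k : X ⟶ K) (h : X ⟶ H) : k * (h ≫ i) = (h ≫ i) * k := by
  have hgc : GeometricallyConnected K.hom :=
    MonoFibre.geometricallyConnected_of_connected_fibres K.hom (η[K] : 𝟙_ (Over S) ⟶ K).left
      (Over.w (η[K] : 𝟙_ (Over S) ⟶ K)) hconn
  refine TrivAct.central_of_fibres (hasSplitCoversFG_of_isMultTypeFT hH).hasSplitCovers i (fun s => ?_) X k h
  obtain ⟨V, hV, hsV, -⟩ := exists_isAffineOpen_mem_and_subset (x := s) (U := ⊤) trivial
  obtain ⟨κ, _, B, g, hfl, hsur, hsp⟩ := (hasSplitCoversFG_of_isMultTypeFT hH).exists_over V hV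
  obtain ⟨j, a, ha⟩ := hsur ⟨s, hsV⟩
  obtain ⟨M, _, -, ⟨σ⟩⟩ := hsp j
  have hc := CentralLoc.fibre_of_residue i (g j ≫ V.ι) a (central_field hgc
    (res σ (CommRingCat.ofHom (algebraMap (B j) (a : PrimeSpectrum (B j)).asIdeal.ResidueField))) i hn)
  rw [Scheme.Hom.comp_apply, ha] at hc
  exact hc

end Groth.Agent.ConnConj
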